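import Groth.Agent.VBResLib.KPush
import Groth.Agent.VBResLib.KPull
import Groth.Agent.ResPropLib.VB
import Groth.Agent.MiscFlat6.CoprodQProj
import Groth.Prelude.Def_KRR

/-!
# Pull-back of a push-forward along a morphism with disjoint image
-/

set_option autoImplicit false
set_option linter.style.haveILetI false
set_option linter.unusedSectionVars false
set_option backward.isDefEq.respectTransparency false
set_option backward.isDefEq.respectTransparency.types false

universe v w u

open CategoryTheory CategoryTheory.Limits AlgebraicGeometry TopologicalSpace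
open LambdaRing (LambdaOps)
attribute [local instance] HasDerivedCategory.standard

noncomputable section

namespace KDisjLib

open Groth.Agent

variable {P M Z : Scheme.{u}}

/-- A push-forward is zero off the closed image. -/
theorem isZero_restrict_pushforward (i : P ⟶ M) (U : M.Opens) (hU : Disjoint (U : Set M) (Set.range i.base))
    (F : P.Modules) : IsZero (((Scheme.Modules.pushforward i).obj F).restrict U.ι) := by
  rw [IsZero.iff_id_eq_zero]
  refine Scheme.Modules.hom_ext _ _ fun W => ConcreteCategory.hom_ext _ _ fun (x : Γ(F, i ⁻¹ᵁ (U.ι ''ᵁ W))) => ?_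
  have h : i ⁻¹ᵁ (U.ι ''ᵁ W) = ⊥ := by
    ext x
    simp only [SetLike.mem_coe, TopologicalSpace.Opens.coe_bot, Set.mem_empty_iff_false, iff_false]
    rintro ⟨y, -, hy⟩
    exact Set.disjoint_left.1 hU (show U.ι y ∈ (U : Set M) from y.2) ⟨x, hy.symm⟩
  haveI := MiscFlat6.subsingleton_bot F h
  exact Subsingleton.elim (α := Γ(F, i ⁻¹ᵁ (U.ι ''ᵁ W))) _ _

/-- The pull-back of an Euler characteristic vanishes on schemes mapping off the support. -/
theorem euler_pullback_eq_zero [IsNoetherian M] [IsNoetherian Z] {A : M.Modules} {n : ℕ} {L : ChainComplex M.Modules ℕ}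
    {π : L ⟶ (ChainComplex.single₀ M.Modules).obj A} (hL : KRR.IsLFRes A n L π) (U : M.Opens)
    (hA : IsZero (A.restrict U.ι)) (g : Z ⟶ (U : Scheme.{u})) :
    ∑ k ∈ Finset.range (n + 1), (-1 : ℤ) ^ k • KRR.cl Z ((Scheme.Modules.pullback (g ≫ U.ι)).obj (L.X k)) = 0 := by
  haveI : (KRR.vbP (U : Scheme.{u})).ContainsZero :=
    ⟨⟨_, isZero_zero _, VBResLib.vb_of_isZero (isZero_zero _)⟩⟩
  haveI : (KRR.vbP Z).ContainsZero :=
    ⟨⟨_, isZero_zero _, VBResLib.vb_of_isZero (isZero_zero _)⟩⟩
  let R := Scheme.Modules.restrictFunctor U.ι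
  let σ := (R.mapHomologicalComplex _).map π ≫
    (HomologicalComplex.singleMapHomologicalComplex R (ComplexShape.down ℕ) 0).hom.app A
  haveI := hL.quasiIso
  haveI : QuasiIso σ := inferInstance
  have hv : ∀ i, FlatMod.IsFinLocFree (((R.mapHomologicalComplex _).obj L).X i) := fun i =>
    PerfLib.isFinLocFree_res U.ι (hL.finLocFree i)
  have h := VBResLib.clSub_eq_euler (KRR.vbP (U : Scheme.{u}))
    (fun S hS h₂ h₃ => by
      haveI := hS.mono_f
      haveI := hS.epi_g
      exact (KRR.vbP (U : Scheme.{u})).prop_of_iso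
        (hS.fIsKernel.conePointUniqueUpToIso (kernelIsKernel S.g)).symm
        (ResPropLib.isFinLocFree_kernel S.g h₂ h₃))
    (A := A.restrict U.ι) (VBResLib.vb_of_isZero hA) ((R.mapHomologicalComplex _).obj L) hv n
    (fun i hi => R.map_isZero (hL.isZero i hi)) σ
  rw [KHeartLib.clSub_eq_zero (KRR.vbP _) (VBResLib.vb_of_isZero hA) hA] at h
  obtain ⟨ψ, hψ⟩ := VBResLib.exists_kPull g
  have h' := congrArg ψ h.symm
  rw [map_zero, map_sum] at h'
  refine (Finset.sum_congr rfl fun k _ => ?_).trans h'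
  rw [map_zsmul]
  congr 1
  refine Eq.trans ?_ (hψ _ (hv k)).symm
  exact KHeartLib.clSub_congr (KRR.vbP Z) ((Scheme.Modules.pullbackComp g U.ι).symm.app (L.X k) ≪≫
    (Scheme.Modules.pullback g).mapIso ((Scheme.Modules.restrictFunctorIsoPullback U.ι).symm.app (L.X k)))

variable {KP : Type v} [CommRing KP] {φP : SGA6.Kvb P →+ KP}
  {KM : Type w} [CommRing KM] {φM : SGA6.Kvb M →+ KM}
  {KZ : Type v} [CommRing KZ] {φZ : SGA6.Kvb Z →+ KZ}

/-- Pulling back a push-forward along a morphism off the image gives zero. -/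
theorem pull_pushCl_eq_zero [IsNoetherian M] [IsNoetherian Z] (hMe : KRR.HasEnoughLocFree M) (i : P ⟶ M)
    (hi : Mor2.IsRegularClosedImmersion i) (h : Z ⟶ M) (hd : Disjoint (Set.range h.base) (Set.range i.base))
    (hφP : Function.Bijective φP) (gh : KM →+ KZ) (hgh : KRR.IsPull h φM φZ gh) (gi : KP →+ KM)
    (hgi : KRR.IsPushCl i φP φM gi) (p : KP) : gh (gi p) = 0 := by
  haveI := hi.1
  obtain ⟨z, rfl⟩ := hφP.2 p
  let U : M.Opens := ⟨(Set.range i.base)ᶜ, i.isClosedEmbedding.isClosed_range.isOpen_compl⟩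
  have hZU : Set.range h.base ⊆ Set.range U.ι.base := by
    rw [Scheme.Opens.range_ι]
    exact hd.subset_compl_right
  let g := IsOpenImmersion.lift U.ι h hZU
  suffices key : (gh.comp gi).comp φP = 0 from DFunLike.congr_fun key z
  refine AddMonoidHom.eq_of_eqOn_dense (KHeartLib.clSub_closure_eq_top (KRR.vbP P)) ?_
  rintro _ ⟨F, hF, rfl⟩
  obtain ⟨n, L, π, hres⟩ := VBResLib.hasLFRes_of_pd hMe
    (VBResLib.isCoh_push_of_isClosedImmersion i (VBResLib.isCoh_of_vb hF))
    (VBResLib.exists_pd_push hMe hi hF).choose_spec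
  have h0 := congrArg φZ (euler_pullback_eq_zero hres U
    (isZero_restrict_pushforward i U disjoint_compl_left F) g)
  rw [IsOpenImmersion.lift_fac, map_zero, map_sum] at h0
  simp only [AddMonoidHom.coe_comp, Function.comp_apply, AddMonoidHom.zero_apply]
  rw [show gi (φP (KZero.clSub (KRR.vbP P) F)) = _ from hgi F hF n L π hres, map_sum]
  refine (Finset.sum_congr rfl fun k _ => ?_).trans h0
  rw [map_zsmul, map_zsmul, hgh _ (hres.finLocFree k)]

end KDisjLib

end
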